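import Cfsg.Agent.Lib.Spor.Cos.Ru.ClosedSt30

/-! Data and checks for the Rudvalis group on 4060 points. -/

set_option autoImplicit false
set_option maxRecDepth 100000
set_option maxHeartbeats 4000000

namespace Cfsg.Agent.Spor.Cos.Ru

theorem st3_closed : ∀ i < 10, (st3.chkClosed actT t2W) i = true :=
  of_blocks (size := 256) (b := 1) (by decide) (by decide) fun j hj => by
    interval_cases j
    · exact st3_closed0

end Cfsg.Agent.Spor.Cos.Ru
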