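import Cfsg.Agent.Lib.Spor.Cos.Ru.EmbChk0

/-! Data and checks for the Rudvalis group on 4060 points. -/

set_option autoImplicit false
set_option maxRecDepth 100000
set_option maxHeartbeats 4000000

namespace Cfsg.Agent.Spor.Cos.Ru

theorem emb_chk : ∀ i < 1755, (chkPart actA actT embT) i = true :=
  of_blocks (size := 1024) (b := 2) (by decide) (by decide) fun j hj => by
    interval_cases j
    · exact emb_chk0
    · exact emb_chk1

end Cfsg.Agent.Spor.Cos.Ru
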