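import Cfsg.Agent.Lib.Spor.Cos.Ru.StData

/-! Data and checks for the Rudvalis group on 4060 points. -/

set_option autoImplicit false
set_option maxRecDepth 100000
set_option maxHeartbeats 4000000

namespace Cfsg.Agent.Spor.Cos.Ru

theorem st0_ents0 : allBlock (st0.chkEnt actT t2W 1) 80 512 0 = true := by decide +kernel


end Cfsg.Agent.Spor.Cos.Ru
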