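import Cfsg.Agent.Lib.Spor.Cos.Ru.EntSt20

/-! Data and checks for the Rudvalis group on 4060 points. -/

set_option autoImplicit false
set_option maxRecDepth 100000
set_option maxHeartbeats 4000000

namespace Cfsg.Agent.Spor.Cos.Ru

theorem st2_ents : ∀ i < 640, (st2.chkEnt actT t2W 25) i = true :=
  of_blocks (size := 512) (b := 2) (by decide) (by decide) fun j hj => by
    interval_cases j
    · exact st2_ents0
    · exact st2_ents1

end Cfsg.Agent.Spor.Cos.Ru
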