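import Cfsg.Agent.Lib.Spor.Cos.Ru.StData

/-! Data and checks for the Rudvalis group on 4060 points. -/

set_option autoImplicit false
set_option maxRecDepth 100000
set_option maxHeartbeats 4000000

namespace Cfsg.Agent.Spor.Cos.Ru

theorem st_part0 : allBlock (chkPartition stList 0) 1755 256 0 = true := by decide +kernel

theorem st_part1 : allBlock (chkPartition stList 0) 1755 256 1 = true := by decide +kernel

theorem st_part2 : allBlock (chkPartition stList 0) 1755 256 2 = true := by decide +kernel

theorem st_part3 : allBlock (chkPartition stList 0) 1755 256 3 = true := by decide +kernel

theorem st_part4 : allBlock (chkPartition stList 0) 1755 256 4 = true := by decide +kernel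

theorem st_part5 : allBlock (chkPartition stList 0) 1755 256 5 = true := by decide +kernel

theorem st_part6 : allBlock (chkPartition stList 0) 1755 256 6 = true := by decide +kernel


end Cfsg.Agent.Spor.Cos.Ru
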