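import Cfsg.Agent.Lib.Spor.Cos.Ru.Order
import Cfsg.Agent.Lib.Spor.Cos.Ru.ActTInv
import Cfsg.Agent.Lib.Spor.Cos.Ru.EmbChk
import Cfsg.Agent.Lib.Spor.Cos.Ru.LocChk
import Cfsg.Agent.Lib.Spor.Cos.Ru.EntLT1
import Cfsg.Agent.Lib.Spor.Cos.Ru.EntLT2
import Cfsg.Agent.Lib.Spor.Cos.Ru.EntLT3
import Cfsg.Agent.Lib.Spor.Cos.Ru.PartSt
import Cfsg.Agent.Lib.Spor.Cos.Ru.EntSt0
import Cfsg.Agent.Lib.Spor.Cos.Ru.ClosedSt0
import Cfsg.Agent.Lib.Spor.Cos.Ru.EntSt1
import Cfsg.Agent.Lib.Spor.Cos.Ru.ClosedSt1
import Cfsg.Agent.Lib.Spor.Cos.Ru.EntSt2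
import Cfsg.Agent.Lib.Spor.Cos.Ru.ClosedSt2
import Cfsg.Agent.Lib.Spor.Cos.Ru.EntSt3
import Cfsg.Agent.Lib.Spor.Cos.Ru.ClosedSt3

/-! Data and checks for the Rudvalis group on 4060 points. -/

set_option autoImplicit false
set_option maxRecDepth 100000
set_option maxHeartbeats 4000000

namespace Cfsg.Agent.Spor.Cos.Ru

theorem stList_ok : ∀ o ∈ stList, o.1.Ok actT t2W o.2 ∧ ∀ j < o.1.m, o.1.chkClosed actT t2W j = true := by
  intro o ho
  simp only [stList, List.mem_cons, List.not_mem_nil, or_false] at ho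
  rcases ho with rfl | rfl | rfl | rfl
  · exact ⟨⟨by decide +kernel, by decide +kernel, st0_ents⟩, st0_closed⟩
  · exact ⟨⟨by decide +kernel, by decide +kernel, st1_ents⟩, st1_closed⟩
  · exact ⟨⟨by decide +kernel, by decide +kernel, st2_ents⟩, st2_closed⟩
  · exact ⟨⟨by decide +kernel, by decide +kernel, st3_ents⟩, st3_closed⟩

theorem t1W_eq : t1W = singles (List.range 4) := by decide +kernel

theorem botT_le : val (genOf actA) botTW ≤ val (genOf actA) t3W := le_of_by byBT_ok

theorem upperT3 : Nat.card (val (genOf actA) t3W) ≤ 10 :=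
  u3.card_le hom det card_nil le_rfl le_rfl le_rfl (by decide +kernel) u3_chk

theorem upperT2 : Nat.card (val (genOf actA) t2W) ≤ 10240 :=
  u2.card_le hom det upperT3 le_rfl le_rfl botT_le (by decide +kernel) u2_chk

theorem upperT1 : Nat.card (val (genOf actA) t1W) ≤ 17971200 :=
  (Subgroup.card_le_of_le (le_of_by byT1_ok)).trans
    (u1.card_le hom det upperT2 le_rfl le_rfl (botT_le.trans (val_le_of_wordsIn (by decide +kernel)))
      (by decide +kernel) u1_chk)

theorem part_injective : Function.Injective (partFst actA actT) :=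
  partFst_injective actA_inv actT_inv (by decide) emb_chk loc_chk

theorem card_parts_le : Nat.card (parts actA actT) ≤ 17971200 := by
  refine le_of_eq_of_le ?_ upperT1
  rw [t1W_eq]
  refine (Nat.card_congr (MonoidHom.ofInjective part_injective).toEquiv).trans ?_
  rw [range_partFst]
  rfl

/-- The action on 1755 points. -/
noncomputable def piT : parts actA actT →* Equiv.Perm (Fin actT.N) := partPerm actA actT

theorem homT : actT.Hom (partOf actA actT) piT := hom_part actA actT actT_inv

theorem lt1_ok : lt1.Ok actT t1W 0 := ⟨by decide +kernel, by decide +kernel, lt1_ents⟩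

theorem lt2_ok : lt2.Ok actT t2W 948 := ⟨by decide +kernel, by decide +kernel, lt2_ents⟩

theorem lt3_ok : lt3.Ok actT t3W 1 := ⟨by decide +kernel, by decide +kernel, lt3_ents⟩

theorem levT : LevR (partOf actA actT) actT piT (singles (List.range 4)) 17971200 [0, 948, 1] ∧
    LevR (partOf actA actT) actT piT t2W 10240 [948, 1] := by
  have h3 : LevR (partOf actA actT) actT piT [] 1 [] := LevR.nil
  have h2 : LevR (partOf actA actT) actT piT t3W 10 [1] := LevR.step homT h3 lt3_ok (by decide +kernel) (by decide +kernel) (by decide +kernel)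
  have h1 : LevR (partOf actA actT) actT piT t2W 10240 [948, 1] := LevR.step homT h2 lt2_ok (by decide +kernel) (by decide +kernel) (by decide +kernel)
  have h0 : LevR (partOf actA actT) actT piT t1W 17971200 [0, 948, 1] := LevR.step homT h1 lt1_ok (by decide +kernel) (by decide +kernel) (by decide +kernel)
  exact ⟨t1W_eq ▸ h0, h1⟩

theorem parts_isSimple : IsSimpleGroup (parts actA actT) ∧ Nat.card (parts actA actT) = 17971200 := by
  obtain ⟨hcard, hdet⟩ := levT.1.top (part_gen actA actT) card_parts_le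
  set b : Fin actT.N := ⟨0, lt1_ok.root_lt⟩
  have htr : ∀ p, ∃ y, piT y b = p := exists_apply_eq homT lt1_ok rfl
  have hK : val (partOf actA actT) t2W = stab piT b :=
    val_eq_stab homT htr (k := 10240) (by decide +kernel) (by decide +kernel) levT.2.le card_parts_le
  refine ⟨isSimpleGroup_of (p := 13) (W := [[0, 3, 2, 3, 3, 0, 1, 2, 0, 2, 1, 2, 1, 1, 1], [2, 2, 3, 2, 0, 1, 2, 0], [2, 0, 2, 0, 1, 1, 2, 1, 2, 3, 2, 1, 1, 3], [1, 0, 2, 0, 0, 0, 0, 3, 0, 2]]) homT (part_gen actA actT) hdet htr (by decide +kernel) hK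
    stList_ok st_part (by decide +kernel) (by norm_num) ?_ (by decide +kernel), hcard⟩
  rw [card_stab htr (k := 10240) hcard]
  decide +kernel

theorem part_mem_stab (y : parts actA actT) : partFst actA actT y ∈ stab pi base := by
  have h : partFst actA actT y ∈ (partFst actA actT).range := ⟨y, rfl⟩
  rw [range_partFst] at h
  refine (Subgroup.closure_le _).2 ?_ h
  rintro _ ⟨w, hw, rfl⟩
  exact hom.apply_ev_eq (ws := singles (List.range actT.n)) (by decide +kernel) (by decide +kernel) hw

theorem simple_of_equiv {G H : Type*} [Group G] [Group H] [IsSimpleGroup G] (e : G ≃* H) : IsSimpleGroup H := by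
  have := e.symm.toEquiv.nontrivial
  exact IsSimpleGroup.isSimpleGroup_of_surjective e.toMonoidHom e.surjective

end Cfsg.Agent.Spor.Cos.Ru
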